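import Groth.Agent.FunFldLib.Hasse.Geometric
import Groth.Agent.FunFldLib.Hasse.Basic
import Mathlib.FieldTheory.PurelyInseparable.Basic
import Mathlib.RingTheory.Kaehler.Basic
import Mathlib.RingTheory.Unramified.Field

/-! Differentials and the subfield `k K^p`. -/

set_option autoImplicit false

universe u

open WithZero Polynomial
open scoped IntermediateField

namespace Groth.Agent.FunFldLib.Kaehler

open FunFld Groth.Agent.FunFldLib Groth.Agent.FunFldLib.Hasse
open LocRes (hasseD)

variable {k : Type u} {K : Type*} [Field k] [Field K] [Algebra k K]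

theorem D_ne_zero_of_hasse {s : K} {H : K →ₐ[k] PowerSeries K} (hH : LocRes.IsHasseFamily s H) :
    KaehlerDifferential.D k K s ≠ 0 := fun h => by
  have h1 := congrArg (deriv hH).liftKaehlerDifferential h
  rw [map_zero, Derivation.liftKaehlerDifferential_comp_D, deriv_apply, hasseD, hH.1] at h1
  simp at h1

theorem exists_sep (hK : IsFF0 k K) (hg : IsGeometric k K) :
    ∃ s : K, KaehlerDifferential.D k K s ≠ 0 ∧ Transcendental k s ∧
      Algebra.IsSeparable (IntermediateField.adjoin k ({s} : Set K)) K :=
  let ⟨s, _, hH, ht, hs⟩ := exists_hasse_of_geometric hK hg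
  ⟨s, D_ne_zero_of_hasse hH, ht, hs⟩

theorem finrank_kaehler (hK : IsFF0 k K) (hg : IsGeometric k K) : Module.finrank K Ω[K⁄k] = 1 := by
  obtain ⟨s, hs0, -, hs⟩ := exists_sep hK hg
  have htop : (⊤ : Submodule K Ω[K⁄k]) = Submodule.span K {KaehlerDifferential.D k K s} := by
    refine le_antisymm ?_ le_top
    rw [← KaehlerDifferential.span_range_derivation k K, Submodule.span_le]
    rintro _ ⟨z, rfl⟩
    obtain ⟨c, hc⟩ := kaehler_span (k := k) (s := s) z
    exact Submodule.mem_span_singleton.2 ⟨c, hc.symm⟩
  rw [← finrank_top K Ω[K⁄k], htop, finrank_span_singleton hs0]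

/-- a variable with nonzero differential is separating -/
theorem separable_of_D_ne_zero (hK : IsFF0 k K) (hg : IsGeometric k K) {x : K}
    [FiniteDimensional (IntermediateField.adjoin k ({x} : Set K)) K]
    (hx : KaehlerDifferential.D k K x ≠ 0) :
    Algebra.IsSeparable (IntermediateField.adjoin k ({x} : Set K)) K := by
  set E := IntermediateField.adjoin k ({x} : Set K)
  obtain ⟨s, hs0, -, hs⟩ := exists_sep hK hg
  obtain ⟨c, hc⟩ := kaehler_span (k := k) (s := s) x
  have hc0 : c ≠ 0 := fun h => hx (by rw [hc, h, zero_smul])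
  have hsub : Subsingleton Ω[K⁄E] := by
    let δ : Derivation k K Ω[K⁄E] := (KaehlerDifferential.D E K).restrictScalars k
    have hδx : δ x = 0 := Derivation.map_algebraMap (KaehlerDifferential.D E K) ⟨x, IntermediateField.mem_adjoin_simple_self k x⟩
    have h := congrArg δ.liftKaehlerDifferential hc
    rw [map_smul, Derivation.liftKaehlerDifferential_comp_D, Derivation.liftKaehlerDifferential_comp_D, hδx] at h
    have hδs : δ s = 0 := (smul_eq_zero.1 h.symm).resolve_left hc0
    refine subsingleton_of_forall_eq 0 fun ω => ?_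
    have hω : ω ∈ Submodule.span K (Set.range (KaehlerDifferential.D E K)) := by
      rw [KaehlerDifferential.span_range_derivation]; trivial
    induction hω using Submodule.span_induction with
    | mem y hy => obtain ⟨z, rfl⟩ := hy; exact derivation_eq_zero_sep δ hδs z
    | zero => rfl
    | add a b _ _ ha hb => rw [ha, hb, add_zero]
    | smul a b _ hb => rw [hb, smul_zero]
  have : Algebra.FormallyUnramified E K := ⟨hsub⟩
  exact Algebra.FormallyUnramified.isSeparable E K

/-- the subfield `k K^p` -/
abbrev kp (k K : Type*) [Field k] [Field K] [Algebra k K] (p : ℕ) : IntermediateField k K :=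
  IntermediateField.adjoin k (Set.range fun y : K => y ^ p)

/-- the constants of the universal derivation -/
noncomputable def dker (k K : Type*) [Field k] [Field K] [Algebra k K] : IntermediateField k K where
  carrier := {z | KaehlerDifferential.D k K z = 0}
  mul_mem' {a b} (ha : _ = _) (hb : _ = _) := show KaehlerDifferential.D k K (a * b) = 0 by simp [ha, hb]
  one_mem' := Derivation.map_one_eq_zero _
  add_mem' {a b} (ha : _ = _) (hb : _ = _) := show KaehlerDifferential.D k K (a + b) = 0 by simp [ha, hb]
  zero_mem' := map_zero _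
  algebraMap_mem' c := Derivation.map_algebraMap _ c
  inv_mem' a (ha : _ = _) := show KaehlerDifferential.D k K a⁻¹ = 0 by rw [Derivation.leibniz_inv, ha, smul_zero]

theorem mem_dker {z : K} : z ∈ dker k K ↔ KaehlerDifferential.D k K z = 0 := Iff.rfl

variable {p : ℕ} [CharP K p]

theorem kp_le_dker : kp k K p ≤ dker k K := IntermediateField.adjoin_le_iff.2 fun z ⟨y, hy⟩ => by
  subst hy
  rw [SetLike.mem_coe, mem_dker, Derivation.leibniz_pow, ← Nat.cast_smul_eq_nsmul K, CharP.cast_eq_zero, zero_smul]

variable [hp : Fact p.Prime]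

theorem pure_kp : IsPurelyInseparable (kp k K p) K := by
  have : ExpChar K p := .prime hp.out
  have : ExpChar (kp k K p) p := (expChar_of_injective_ringHom (algebraMap (kp k K p) K).injective p |> fun _ => by
    have : CharP (kp k K p) p := (RingHom.charP_iff (algebraMap (kp k K p) K) (algebraMap (kp k K p) K).injective p).2 inferInstance
    exact .prime hp.out)
  exact (isPurelyInseparable_iff_pow_mem _ p).2 fun x =>
    ⟨1, ⟨⟨x ^ p, IntermediateField.subset_adjoin k _ ⟨x, rfl⟩⟩, (pow_one p).symm ▸ rfl⟩⟩

theorem kp_adjoin_eq_top {s : K} (hs : Algebra.IsSeparable (IntermediateField.adjoin k ({s} : Set K)) K) :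
    IntermediateField.adjoin (kp k K p) ({s} : Set K) = ⊤ := by
  set L := IntermediateField.adjoin (kp k K p) ({s} : Set K)
  have := pure_kp (k := k) (K := K) (p := p)
  have : IsPurelyInseparable L K := IsPurelyInseparable.tower_top (kp k K p) L K
  let E := IntermediateField.adjoin k ({s} : Set K)
  have hle : E ≤ L.restrictScalars k := IntermediateField.adjoin_le_iff.2
    (Set.singleton_subset_iff.2 (IntermediateField.mem_adjoin_simple_self _ s))
  let _ : Algebra E L := ((IntermediateField.inclusion hle).toRingHom).toAlgebra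
  have : IsScalarTower E L K := IsScalarTower.of_algebraMap_eq fun _ => rfl
  have : Algebra.IsSeparable L K := Algebra.isSeparable_tower_top_of_isSeparable E L K
  refine eq_top_iff.2 fun x _ => ?_
  obtain ⟨y, hy⟩ := IsPurelyInseparable.surjective_algebraMap_of_isSeparable L K x
  exact hy ▸ y.2

theorem kp_eq (hK : IsFF0 k K) (hg : IsGeometric k K) :
    kp k K p = dker k K ∧ Module.finrank (kp k K p) K = p := by
  obtain ⟨s, hs0, -, hs⟩ := exists_sep hK hg
  have hsn : s ∉ kp k K p := fun h => hs0 (kp_le_dker h)
  have : ExpChar K p := .prime hp.out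
  have : CharP (kp k K p) p := (RingHom.charP_iff (algebraMap (kp k K p) K) (algebraMap (kp k K p) K).injective p).2 inferInstance
  obtain ⟨c, hc⟩ : ∃ c : kp k K p, (c : K) = s ^ p := ⟨⟨_, IntermediateField.subset_adjoin k _ ⟨s, rfl⟩⟩, rfl⟩
  have hirr : Irreducible (X ^ p - C c) := X_pow_sub_C_irreducible_of_prime hp.out fun b hb => hsn (by
    have h := congrArg Subtype.val hb
    rw [SubmonoidClass.coe_pow, hc] at h
    exact frobenius_inj K p h ▸ b.2)
  have hroot : aeval s (X ^ p - C c) = 0 := by simp [aeval_C, hc]
  have hint : IsIntegral (kp k K p) s := ⟨_, monic_X_pow_sub_C c hp.out.ne_zero, hroot⟩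
  have hmin : minpoly (kp k K p) s = X ^ p - C c :=
    (minpoly.eq_of_irreducible_of_monic hirr hroot (monic_X_pow_sub_C c hp.out.ne_zero)).symm
  have hrank : Module.finrank (kp k K p) K = p := by
    rw [← IntermediateField.finrank_top', ← kp_adjoin_eq_top hs, IntermediateField.adjoin.finrank hint, hmin,
      natDegree_X_pow_sub_C]
  refine ⟨le_antisymm kp_le_dker fun z hz => ?_, hrank⟩
  have : FiniteDimensional (kp k K p) K := Module.finite_of_finrank_pos (hrank.symm ▸ hp.out.pos)
  by_contra hzn
  -- `k K^p ( z ) = K` by primality of the degree, so `ds = 0`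
  set M := IntermediateField.adjoin (kp k K p) ({z} : Set K)
  have hM : M = ⊤ := by
    have hd : Module.finrank (kp k K p) M ∣ p := ⟨_, (hrank.symm.trans (Module.finrank_mul_finrank (kp k K p) M K).symm)⟩
    rcases hp.out.eq_one_or_self_of_dvd _ hd with h | h
    · refine absurd ?_ hzn
      have hmem : z ∈ (⊥ : IntermediateField (kp k K p) K) := by
        rw [← IntermediateField.finrank_eq_one_iff.1 h]; exact IntermediateField.mem_adjoin_simple_self _ z
      obtain ⟨b, rfl⟩ := IntermediateField.mem_bot.1 hmem
      exact b.2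
    · exact IntermediateField.eq_of_le_of_finrank_eq le_top (h.trans (by rw [IntermediateField.finrank_top', hrank]))
  have hle : M.restrictScalars k ≤ dker k K := by
    rw [IntermediateField.restrictScalars_adjoin]
    exact IntermediateField.adjoin_le_iff.2 (Set.union_subset (fun a ha => kp_le_dker ha) (Set.singleton_subset_iff.2 hz))
  exact hs0 (hle (show s ∈ M.restrictScalars k by rw [hM]; trivial))

theorem mem_kp_iff_not_separable (hK : IsFunctionField k K) (hg : IsGeometric k K) (x : K) :
    x ∈ kp k K p ↔ ¬ Algebra.IsSeparable (IntermediateField.adjoin k ({x} : Set K)) K := by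
  constructor
  · intro hx hsep
    obtain ⟨s, hs0, -, -⟩ := exists_sep hK.1 hg
    obtain ⟨c, hc⟩ := kaehler_span (k := k) (s := x) s
    exact hs0 (by rw [hc, mem_dker.1 (kp_le_dker hx), smul_zero])
  · intro hns
    by_contra hx
    rw [(kp_eq hK.1 hg).1, mem_dker] at hx
    apply hns
    set E := IntermediateField.adjoin k ({x} : Set K)
    have hxt : Transcendental k x := fun halg => by
      obtain ⟨c, rfl⟩ := hK.2 x halg
      exact hx (Derivation.map_algebraMap _ c)
    have hfin : FiniteDimensional E K := finite_over hK.1 hxt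
    exact separable_of_D_ne_zero hK.1 hg hx

end Groth.Agent.FunFldLib.Kaehler
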