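import Groth.Agent.FunFldLib.Kaehler.Basic
import Groth.Agent.FunFldLib.Gal.SumRam
import Groth.Agent.FunFldLib.Gal.Inertia
import Groth.Agent.FunFldLib.Diff.Dual

/-! Separable places. -/

set_option autoImplicit false

universe u

open WithZero Polynomial
open scoped IntermediateField

namespace Groth.Agent.FunFldLib.Kaehler

open FunFld Groth.Agent.FunFldLib

variable {k : Type u} {K : Type*} [Field k] [Field K] [Algebra k K]

/-- a local parameter at a separable place is not in `k K^p` -/
theorem parameter_not_mem (hK : IsFF0 k K) (hg : IsGeometric k K) {p : ℕ} [CharP K p] [hp : Fact p.Prime]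
    (P : Place k K) [Algebra.IsSeparable k (IsLocalRing.ResidueField P.O)] {t : K} (ht : P.1 t = exp (-1)) :
    t ∉ kp k K p := by
  classical
  intro htm
  set M := kp k K p
  have hrank := (kp_eq (p := p) hK hg).2
  have : FiniteDimensional M K := Module.finite_of_finrank_pos (hrank.symm ▸ hp.out.pos)
  have hpow : ∀ x : K, x ^ p ∈ M := fun x => IntermediateField.subset_adjoin k _ ⟨x, rfl⟩
  have hM : IsFF0 k M := by
    obtain ⟨s, -, hst, -⟩ := exists_sep hK hg
    let w : M := ⟨s ^ p, hpow s⟩
    have hwK : Transcendental k (s ^ p) := hst.pow hp.out.pos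
    refine ⟨w, fun h => hwK (h.algHom M.val), ?_⟩
    have hf := finite_over hK hwK
    set E := IntermediateField.adjoin k ({w} : Set M)
    set E' := IntermediateField.adjoin k ({s ^ p} : Set K)
    have hmap : E.map M.val = E' := by rw [IntermediateField.adjoin_map, Set.image_singleton]; rfl
    let e : E ≃ₐ[k] E' := (IntermediateField.equivMap E M.val).trans (IntermediateField.equivOfEq hmap)
    let _ : Algebra E K := ((algebraMap E' K).comp e.toRingHom).toAlgebra
    have : IsScalarTower E M K := IsScalarTower.of_algebraMap_eq fun _ => rfl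
    have : Module.Finite E K := Module.Finite.of_equiv_equiv (A₁ := E') (B₁ := K) e.symm.toRingEquiv (RingEquiv.refl K)
      (RingHom.ext fun x => by
        show algebraMap E K (e.symm x) = algebraMap E' K x
        show algebraMap E' K (e (e.symm x)) = _
        rw [e.apply_symm_apply])
    exact FiniteDimensional.left E M K
  obtain ⟨P₀, e, -, he⟩ := exists_over (K := M) hM P
  have honly : ∀ R : Place k K, IsOver R P₀ → R = P := fun R ⟨e', he'⟩ => ext_of_le _ _ fun x hx => by
    have h1 : R.1 (algebraMap M K ⟨x ^ p, hpow x⟩) ≤ 1 := by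
      show R.1 (x ^ p) ≤ 1; rw [map_pow]; exact pow_le_one₀ zero_le hx
    have h2 : P.1 (x ^ p) ≤ 1 := (over_le_iff he ⟨x ^ p, hpow x⟩).2 ((over_le_iff he' ⟨x ^ p, hpow x⟩).1 h1)
    rwa [map_pow, pow_le_one_iff_of_nonneg zero_le hp.out.ne_zero] at h2
  have hsum := sum_ramIdx_deg0 hM P₀ {P} fun R => by
    rw [Finset.mem_singleton]; exact ⟨fun h => h ▸ ⟨e, he⟩, honly R⟩
  rw [Finset.sum_singleton, ramIdx_eq he, hrank] at hsum
  -- the residue extension is trivial
  have hext : P₀.1.HasExtension P.1 :=
    ⟨Valuation.isEquiv_iff_val_le_one.2 fun {x} => (over_le_iff he x).symm⟩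
  set κ₀ := IsLocalRing.ResidueField P₀.O
  set κ := IsLocalRing.ResidueField P.O
  have htower : IsScalarTower k κ₀ κ := IsScalarTower.of_algebraMap_eq fun c => rfl
  have : FiniteDimensional k κ := Module.finite_of_finrank_pos (deg_pos hK P)
  have : FiniteDimensional k κ₀ := Module.finite_of_finrank_pos (deg_pos hM P₀)
  have hsepκ : Algebra.IsSeparable κ₀ κ := Algebra.isSeparable_tower_top_of_isSeparable k κ₀ κ
  have : ExpChar K p := .prime hp.out
  have hpκ : ∀ r : κ, ∃ c : κ₀, algebraMap κ₀ κ c = r ^ p := fun r => by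
    obtain ⟨x, rfl⟩ := IsLocalRing.residue_surjective r
    refine ⟨IsLocalRing.residue P₀.O ⟨⟨(x : K) ^ p, hpow x⟩, (over_le_iff he _).1 (x ^ p).2⟩, ?_⟩
    rw [← map_pow]; rfl
  have : CharP κ₀ p := by
    have : CharP k p := (RingHom.charP_iff (algebraMap k K) (algebraMap k K).injective p).2 inferInstance
    exact charP_of_injective_algebraMap (algebraMap k κ₀).injective p
  have : ExpChar κ₀ p := .prime hp.out
  have hpure : IsPurelyInseparable κ₀ κ := (isPurelyInseparable_iff_pow_mem _ p).2 fun r => ⟨1, by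
    obtain ⟨c, hc⟩ := hpκ r; exact ⟨c, by rw [pow_one]; exact hc⟩⟩
  have hsurj : Function.Surjective (algebraMap κ₀ κ) := IsPurelyInseparable.surjective_algebraMap_of_isSeparable κ₀ κ
  have hdeg : P.deg ≤ P₀.deg := Diff.deg_le (P := P₀) (Q := P) hsurj hM
  have h1 : (p : ℤ) ≤ e := by
    by_contra hlt
    push Not at hlt
    have hlt' : e < p := by exact_mod_cast hlt
    have := Nat.mul_lt_mul_of_lt_of_le hlt' hdeg (deg_pos hM P₀)
    omega
  obtain ⟨n, hn⟩ : ∃ n, log (P₀.1 ⟨t, htm⟩) = n := ⟨_, rfl⟩
  have h := he ⟨t, htm⟩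
  have h0 : P₀.1 (⟨t, htm⟩ : M) ≠ 0 := v_ne_zero _ fun h0 => by
    rw [show t = 0 from congrArg Subtype.val h0, map_zero] at ht; exact exp_ne_zero ht.symm
  rw [show algebraMap M K ⟨t, htm⟩ = t from rfl, ht, ← exp_log h0, hn, ← exp_nsmul, exp_inj, nsmul_eq_mul] at h
  have hdvd : (e : ℤ) ∣ 1 := ⟨-n, by linarith⟩
  have := Int.le_of_dvd one_pos hdvd
  have := hp.out.two_le
  omega

theorem D_parameter_ne_zero (hK : IsFunctionField k K) (hg : IsGeometric k K)
    (P : Place k K) [Algebra.IsSeparable k (IsLocalRing.ResidueField P.O)] {t : K} (ht : P.1 t = exp (-1)) :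
    KaehlerDifferential.D k K t ≠ 0 := by
  rcases CharP.exists' K with h0 | ⟨p, hp, hpK⟩
  · intro h
    have htt : Transcendental k t := fun halg => by
      obtain ⟨c, hc⟩ := hK.2 t halg
      rcases eq_or_ne c 0 with rfl | hc0
      · rw [← hc, map_zero, map_zero] at ht; exact exp_ne_zero ht.symm
      · rw [← hc, v_algebraMap P hc0, ← exp_zero, exp_inj] at ht; omega
    have : FiniteDimensional (IntermediateField.adjoin k ({t} : Set K)) K := finite_over hK.1 htt
    have : CharZero (IntermediateField.adjoin k ({t} : Set K)) :=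
      (RingHom.charZero_iff (algebraMap _ K).injective).2 h0
    obtain ⟨s, hs0, -, -⟩ := exists_sep hK.1 hg
    obtain ⟨c, hc⟩ := kaehler_span (k := k) (s := t) s
    exact hs0 (by rw [hc, h, smul_zero])
  · intro h
    exact parameter_not_mem hK.1 hg P ht (by rw [(kp_eq (p := p) hK.1 hg).1]; exact h)

/-- a separable variable has places over all but finitely many separable irreducibles with separable residue field -/
theorem infinite_separable (hK : IsFF0 k K) (hg : IsGeometric k K) :
    {P : Place k K | Algebra.IsSeparable k (IsLocalRing.ResidueField P.O)}.Infinite := by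
  classical
  obtain ⟨s, -, hst, hsep⟩ := exists_sep hK hg
  set E := IntermediateField.adjoin k ({s} : Set K)
  have : FiniteDimensional E K := finite_over hK hst
  have hE : IsFF0 k E := by
    let s' : E := ⟨s, IntermediateField.mem_adjoin_simple_self k s⟩
    refine ⟨s', fun h => hst (h.algHom E.val), ?_⟩
    have htop : IntermediateField.adjoin k ({s'} : Set E) = ⊤ := by
      apply IntermediateField.map_injective E.val
      rw [IntermediateField.adjoin_map, Set.image_singleton, ← AlgHom.fieldRange_eq_map, IntermediateField.fieldRange_val]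
      rfl
    rw [htop]
    exact Module.Finite.of_surjective (Algebra.linearMap (⊤ : IntermediateField k E) E) fun x => ⟨⟨x, trivial⟩, rfl⟩
  obtain ⟨y₀, hy₀⟩ := Field.exists_primitive_element E K
  have hfy : aeval y₀ (derivative (minpoly E y₀)) ≠ 0 :=
    (Algebra.IsSeparable.isSeparable E y₀).aeval_derivative_ne_zero (minpoly.aeval _ _)
  set Bad : Set (Place k K) := {R | ¬ R.1 y₀ ≤ 1} ∪ {R | R.ord (aeval y₀ (derivative (minpoly E y₀))) ≠ 0}
  have hBad : Bad.Finite := by
    refine Set.Finite.union ((finite_ord_support hK y₀).subset fun R hR => ?_) (finite_ord_support hK _)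
    rcases eq_or_ne y₀ 0 with h | h
    · exact absurd (by simp [h]) hR
    · intro h0
      exact hR ((v_eq_exp R h).trans_le (exp_le_exp.2 (by simp only [] at h0 ⊢; omega) |>.trans_eq exp_zero))
  -- infinitely many separable irreducibles
  let Irr : Set k[X] := {q | q.Monic ∧ Irreducible q ∧ q.Separable}
  have hS : Irr.Infinite := by
    rcases finite_or_infinite k with hk | hk
    · intro hfin
      set f : k[X] := X * ∏ q ∈ hfin.toFinset, q + 1
      have hdeg : f.natDegree ≠ 0 := by
        have h0 : (∏ q ∈ hfin.toFinset, q).Monic := monic_prod_of_monic _ _ fun q hq => (hfin.mem_toFinset.1 hq).1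
        rw [show f = X * ∏ q ∈ hfin.toFinset, q + C 1 by simp [f], natDegree_add_C, natDegree_mul X_ne_zero h0.ne_zero, natDegree_X]
        omega
      obtain ⟨q, hqm, hqi, hqd⟩ := exists_monic_irreducible_factor f fun hu => hdeg (natDegree_eq_zero_of_isUnit hu)
      have hqmem : q ∈ hfin.toFinset := hfin.mem_toFinset.2 ⟨hqm, hqi, PerfectField.separable_of_irreducible hqi⟩
      have h2 : q ∣ X * ∏ q ∈ hfin.toFinset, q := dvd_mul_of_dvd_right (Finset.dvd_prod_of_mem _ hqmem) X
      exact hqi.not_isUnit (isUnit_of_dvd_one ((dvd_add_right h2).1 hqd))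
    · refine Set.Infinite.mono (s := Set.range fun c : k => X - C c) ?_
        (Set.infinite_range_of_injective fun a b h => by simpa using congrArg (fun q : k[X] => q.coeff 0) h)
      rintro _ ⟨c, rfl⟩
      exact ⟨monic_X_sub_C c, irreducible_X_sub_C c, separable_X_sub_C⟩
  have hzero : ∀ q : Irr, ∃ R : Place k K, R.1 (aeval s (q : k[X])) < 1 := fun ⟨q, hqm, hqi, _⟩ => by
    have ht : Transcendental k (aeval s q) :=
      hst.aeval q hqi.natDegree_pos.ne' (by rw [hqm.leadingCoeff]; exact one_mem _)
    by_contra hno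
    push Not at hno
    have h := deg_zeros_eq hK ht
    have hz : FunFld.div k (aeval s q) ⊔ 0 = 0 := Finsupp.ext fun R => by
      rw [Finsupp.sup_apply, div_apply hK, Finsupp.coe_zero, Pi.zero_apply, sup_eq_right]
      have hq0 : aeval s q ≠ 0 := fun h0 => ht (h0 ▸ isAlgebraic_zero)
      exact not_lt.1 fun hlt => not_lt.2 (hno R) ((v_lt_one_iff R hq0).2 hlt)
    rw [hz, deg_zero] at h
    have := finite_over hK ht
    have hpos : 0 < degX k (aeval s q) := Module.finrank_pos
    omega
  choose place hplace using hzero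
  have hle1 : ∀ (R : Place k K) (q : k[X]), 0 < q.natDegree → q.Monic → R.1 (aeval s q) < 1 → R.1 s ≤ 1 := fun R q hd hm h => by
    by_contra hgt
    push Not at hgt
    have h1 : R.1 (aeval s q) = R.1 (q.coeff q.natDegree • s ^ q.natDegree) := by
      rw [aeval_eq_sum_range]
      refine Valuation.map_sum_eq_of_lt R.1 (Finset.self_mem_range_succ _) fun i hi => ?_
      rw [Finset.mem_sdiff, Finset.mem_range, Finset.mem_singleton] at hi
      rw [hm.coeff_natDegree, one_smul, map_pow]
      exact (smul_le R _ _).trans_lt (by rw [map_pow]; exact pow_lt_pow_right₀ hgt (by omega))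
    rw [h1, hm.coeff_natDegree, one_smul, map_pow] at h
    exact (one_le_pow₀ hgt.le).not_gt h
  have hinj : ∀ (R : Place k K) (q q' : Irr), R.1 (aeval s (q : k[X])) < 1 → R.1 (aeval s (q' : k[X])) < 1 → q = q' := by
    rintro R ⟨q, hqm, hqi, hq⟩ ⟨q', hqm', hqi', hq'⟩ h h'
    refine Subtype.ext ?_
    by_contra hne
    have hcop : IsCoprime q q' := (hqi.coprime_iff_not_dvd).2 fun hd =>
      hne (eq_of_monic_of_associated hqm hqm' (hqi.associated_of_dvd hqi' hd))
    obtain ⟨a, b, hab⟩ := hcop
    have hs1 := hle1 R q hqi.natDegree_pos hqm h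
    have hint : ∀ c : k[X], R.1 (aeval s c) ≤ 1 := fun c => by
      induction c using Polynomial.induction_on' with
      | add a b ha hb => rw [map_add]; exact (Valuation.map_add _ _ _).trans (max_le ha hb)
      | monomial n a =>
        rw [aeval_monomial, ← Algebra.smul_def]
        exact (smul_le R _ _).trans (by rw [map_pow]; exact pow_le_one₀ zero_le hs1)
    have h1 : R.1 (aeval s (a * q + b * q')) < 1 := by
      rw [map_add, map_mul, map_mul]
      refine (Valuation.map_add _ _ _).trans_lt (max_lt ?_ ?_) <;> rw [map_mul]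
      · exact (mul_le_of_le_one_left zero_le (hint a)).trans_lt h
      · exact (mul_le_of_le_one_left zero_le (hint b)).trans_lt h'
    rw [hab, map_one, map_one] at h1
    exact lt_irrefl _ h1
  -- discard the finitely many bad ones
  set BadQ : Set Irr := {q | ∃ R ∈ Bad, R.1 (aeval s (q : k[X])) < 1}
  have hBadQ : BadQ.Finite := by
    have hsub : BadQ ⊆ ⋃ R ∈ Bad, {q : Irr | R.1 (aeval s (q : k[X])) < 1} := fun q ⟨R, hR, h⟩ => Set.mem_biUnion hR h
    exact (hBad.biUnion fun R _ => Set.Subsingleton.finite fun a ha b hb => hinj R a b ha hb).subset hsub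
  have : Infinite Irr := hS.to_subtype
  have hgood : (BadQᶜ).Infinite := hBadQ.infinite_compl
  refine Set.Infinite.mono ?_ (hgood.image (f := place) fun a _ b _ hab => hinj (place b) a b (hab ▸ hplace a) (hplace b))
  rintro _ ⟨⟨q, hqm, hqi, hqs⟩, hgoodq, rfl⟩
  set R := place ⟨q, hqm, hqi, hqs⟩
  have hR : R.1 (aeval s q) < 1 := hplace _
  have hnb : ∀ R' : Place k K, R'.1 (aeval s q) < 1 → R' ∉ Bad := fun R' h h' => hgoodq ⟨R', h', h⟩
  -- the residue field is generated by `y₀` over that of `k(s)`
  obtain ⟨P, e, -, he⟩ := exists_over (K := E) hE R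
  let _ : Algebra P.O K := ((algebraMap E K).comp (algebraMap P.O E)).toAlgebra
  have : IsScalarTower P.O E K := IsScalarTower.of_algebraMap_eq fun _ => rfl
  let s' : E := ⟨s, IntermediateField.mem_adjoin_simple_self k s⟩
  have hsq : (algebraMap E K) (aeval s' q) = aeval s q := by rw [← aeval_algebraMap_apply]; rfl
  have hPq : P.1 (aeval s' q) < 1 := by
    by_contra h
    push Not at h
    rcases h.eq_or_lt with h | h
    · have := he (aeval s' q)
      rw [hsq, ← h, one_pow] at this
      exact (this ▸ hR).false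
    · have := he (aeval s' q)
      rw [hsq] at this
      exact absurd (this ▸ hR) (not_lt.2 (one_le_pow₀ h.le))
  have hover : ∀ R' : Place k K, IsOver R' P → R' ∉ Bad := fun R' ⟨e', he'⟩ => hnb R' (by
    rw [← hsq, he']; exact pow_lt_one₀ zero_le hPq (over_pos he').ne')
  have hy : IsIntegral P.O y₀ := Diff.isIntegral_of_le_one hE fun R' hR' => by
    by_contra h; exact hover R' hR' (.inl h)
  have hδ : R.1 (aeval y₀ (derivative (minpoly E y₀))) = 1 := by
    rw [v_eq_exp R hfy, show R.ord (aeval y₀ (derivative (minpoly E y₀))) = 0 by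
      by_contra h; exact hover R ⟨e, he⟩ (.inr h), neg_zero, exp_zero]
  have hRy : R.1 y₀ ≤ 1 := by by_contra h; exact hover R ⟨e, he⟩ (.inl h)
  -- separable generators
  set κ := IsLocalRing.ResidueField R.O
  have hsR : R.1 s ≤ 1 := hle1 R q hqi.natDegree_pos hqm hR
  set σ : κ := IsLocalRing.residue R.O ⟨s, hsR⟩
  set θ : κ := IsLocalRing.residue R.O ⟨y₀, hRy⟩
  have hres : ∀ (a : R.O) (p : k[X]), IsLocalRing.residue R.O (aeval a p) = aeval (IsLocalRing.residue R.O a) p :=
    fun a p => by rw [aeval_def, hom_eval₂, aeval_def]; rfl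
  have hσ : IsSeparable k σ := hqs.of_dvd (minpoly.dvd k σ (by
    rw [← hres, Gal.residue_lt_iff]
    have : ((aeval (⟨s, hsR⟩ : R.O) q : R.O) : K) = aeval s q := by
      rw [aeval_def, aeval_def, show ((eval₂ (algebraMap k R.O) ⟨s, hsR⟩ q : R.O) : K) = R.O.subtype (eval₂ (algebraMap k R.O) ⟨s, hsR⟩ q) from rfl,
        hom_eval₂]
      rfl
    rw [this]; exact hR))
  set L := IntermediateField.adjoin k ({σ} : Set κ)
  have : Algebra.IsSeparable k L := (IntermediateField.isSeparable_adjoin_simple_iff_isSeparable _ _).2 hσ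
  -- residues of elements of `E` lie in `L`
  have hint : ∀ c : k[X], R.1 (aeval s c) ≤ 1 := fun c => by
    induction c using Polynomial.induction_on' with
    | add a b ha hb => rw [map_add]; exact (Valuation.map_add _ _ _).trans (max_le ha hb)
    | monomial n a =>
      rw [aeval_monomial, ← Algebra.smul_def]
      exact (smul_le R _ _).trans (by rw [map_pow]; exact pow_le_one₀ zero_le hsR)
  have hco : ∀ c : k[X], ((aeval (⟨s, hsR⟩ : R.O) c : R.O) : K) = aeval s c := fun c => by
    rw [aeval_def, aeval_def, show ((eval₂ (algebraMap k R.O) ⟨s, hsR⟩ c : R.O) : K) = R.O.subtype (eval₂ (algebraMap k R.O) ⟨s, hsR⟩ c) from rfl,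
      hom_eval₂]
    rfl
  have hmemL : ∀ c : k[X], IsLocalRing.residue R.O (aeval (⟨s, hsR⟩ : R.O) c) ∈ L := fun c => by
    rw [hres]
    exact IntermediateField.algebra_adjoin_le_adjoin k _ (Algebra.adjoin_singleton_eq_range_aeval k σ ▸ ⟨c, rfl⟩)
  have hdiv : ∀ c : k[X], R.1 (aeval s c) < 1 → q ∣ c := fun c hc => by
    by_contra hn
    obtain ⟨a, b, hab⟩ := (hqi.coprime_iff_not_dvd).2 hn
    have h1 : R.1 (aeval s (a * q + b * c)) < 1 := by
      rw [map_add, map_mul, map_mul]
      refine (Valuation.map_add _ _ _).trans_lt (max_lt ?_ ?_) <;> rw [map_mul]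
      · exact (mul_le_of_le_one_left zero_le (hint a)).trans_lt hR
      · exact (mul_le_of_le_one_left zero_le (hint b)).trans_lt hc
    rw [hab, map_one, map_one] at h1
    exact lt_irrefl _ h1
  have hfrac : ∀ n : ℕ, ∀ (c : R.O) (a b : k[X]), b.natDegree ≤ n → b ≠ 0 → (c : K) * aeval s b = aeval s a →
      IsLocalRing.residue R.O c ∈ L := by
    intro n
    induction n using Nat.strong_induction_on with
    | _ n ih =>
      intro c a b hbn hb0 hab
      by_cases hlt : R.1 (aeval s b) < 1
      · have hlt' : R.1 (aeval s a) < 1 := by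
          rw [← hab, map_mul]; exact (mul_le_of_le_one_left zero_le c.2).trans_lt hlt
        obtain ⟨b', rfl⟩ := hdiv b hlt
        obtain ⟨a', rfl⟩ := hdiv a hlt'
        have hb' : b' ≠ 0 := right_ne_zero_of_mul hb0
        have hq0 : aeval s q ≠ 0 := fun h => hqm.ne_zero (transcendental_iff.1 hst _ h)
        rw [natDegree_mul hqm.ne_zero hb'] at hbn
        refine ih b'.natDegree (by have := hqi.natDegree_pos; omega) c a' b' le_rfl hb' ?_
        rw [map_mul, map_mul, mul_left_comm] at hab
        exact mul_left_cancel₀ hq0 hab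
      · have hne : IsLocalRing.residue R.O (aeval (⟨s, hsR⟩ : R.O) b) ≠ 0 := by
          rw [ne_eq, Gal.residue_lt_iff, hco]; exact hlt
        have hcb : IsLocalRing.residue R.O c * IsLocalRing.residue R.O (aeval (⟨s, hsR⟩ : R.O) b) =
            IsLocalRing.residue R.O (aeval (⟨s, hsR⟩ : R.O) a) := by
          rw [← map_mul]
          exact congrArg _ (Subtype.ext (by rw [MulMemClass.coe_mul, hco, hco]; exact hab))
        rw [eq_div_iff hne |>.2 hcb]
        exact div_mem (hmemL a) (hmemL b)
  have hresE : ∀ (c : P.O) (hc : R.1 (algebraMap E K (c : E)) ≤ 1),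
      IsLocalRing.residue R.O ⟨algebraMap E K (c : E), hc⟩ ∈ L := fun c hc => by
    obtain ⟨a, b, hab⟩ := (IntermediateField.mem_adjoin_simple_iff k _).1 (c : E).2
    rcases eq_or_ne b 0 with rfl | hb0
    · have h0 : (⟨algebraMap E K (c : E), hc⟩ : R.O) = 0 := Subtype.ext (by
        show ((c : E) : K) = 0
        rw [hab]; simp)
      rw [h0, map_zero]; exact zero_mem _
    · refine hfrac b.natDegree ⟨algebraMap E K (c : E), hc⟩ a b le_rfl hb0 ?_
      show ((c : E) : K) * _ = _
      rw [hab, div_mul_cancel₀]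
      exact fun h => hb0 (transcendental_iff.1 hst _ h)
  -- every residue lies in `L(θ)`
  set M := IntermediateField.adjoin L ({θ} : Set κ)
  have hM : M = ⊤ := eq_top_iff.2 fun z _ => by
    obtain ⟨r, rfl⟩ := IsLocalRing.residue_surjective z
    set S := (finite_over_place (K' := K) hE P).toFinset
    obtain ⟨r', hr'⟩ := approx S (fun R' => if R' = R then (r : K) else 0) (fun _ => -1)
    have hr'R : R.1 (r' - r) < 1 := by
      rw [lt_one_iff_le]; simpa using hr' R ((Set.Finite.mem_toFinset _).2 ⟨e, he⟩)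
    have hr'1 : ∀ R' : Place k K, IsOver R' P → R'.1 r' ≤ 1 := fun R' hR' => by
      have h := hr' R' ((Set.Finite.mem_toFinset _).2 hR')
      rcases eq_or_ne R' R with rfl | hne
      · rw [show r' = (r' - r) + r by ring]
        exact (Valuation.map_add _ _ _).trans (max_le hr'R.le r.2)
      · simp only [if_neg hne, sub_zero] at h
        exact h.trans ((exp_le_exp.2 (by omega)).trans_eq exp_zero)
    set δ := aeval y₀ (derivative (minpoly E y₀))
    have hmem : r' * δ ∈ Algebra.adjoin P.O ({y₀} : Set K) := (Diff.dual_iff hy₀ hy r').1 fun b hb =>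
      Tate.trace_int hE P fun R' hR' => by
        rw [map_mul]
        exact mul_le_one₀ (hr'1 R' hR') zero_le (Diff.le_one_of_adjoin hE hy hb hR')
    have key : ∀ w ∈ Algebra.adjoin P.O ({y₀} : Set K), ∀ hw : R.1 w ≤ 1, IsLocalRing.residue R.O ⟨w, hw⟩ ∈ M := by
      intro w hw
      induction hw using Algebra.adjoin_induction with
      | mem x hx => intro hx'; obtain rfl := Set.mem_singleton_iff.1 hx; exact IntermediateField.mem_adjoin_simple_self _ θ
      | algebraMap c => intro hc; exact M.algebraMap_mem ⟨_, hresE c hc⟩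
      | add a b ha hb iha ihb =>
        intro hab
        have h1 := Diff.le_one_of_adjoin hE hy ha (R := R) ⟨e, he⟩
        have h2 := Diff.le_one_of_adjoin hE hy hb (R := R) ⟨e, he⟩
        rw [show (⟨a + b, hab⟩ : R.O) = ⟨a, h1⟩ + ⟨b, h2⟩ from rfl, map_add]
        exact add_mem (iha h1) (ihb h2)
      | mul a b ha hb iha ihb =>
        intro hab
        have h1 := Diff.le_one_of_adjoin hE hy ha (R := R) ⟨e, he⟩
        have h2 := Diff.le_one_of_adjoin hE hy hb (R := R) ⟨e, he⟩
        rw [show (⟨a * b, hab⟩ : R.O) = ⟨a, h1⟩ * ⟨b, h2⟩ from rfl, map_mul]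
        exact mul_mem (iha h1) (ihb h2)
    have hδO : R.1 δ ≤ 1 := hδ.le
    have hδM : IsLocalRing.residue R.O ⟨δ, hδO⟩ ∈ M := key _ ((Diff.dual_iff hy₀ hy 1).1 (fun b hb =>
      Tate.trace_int hE P fun R' hR' => by rw [one_mul]; exact Diff.le_one_of_adjoin hE hy hb hR') |> fun h => by rwa [one_mul] at h) hδO
    have hprod : R.1 (r' * δ) ≤ 1 := by rw [map_mul, hδ, mul_one]; exact hr'1 R ⟨e, he⟩
    have h := key _ hmem hprod
    rw [show (⟨r' * δ, hprod⟩ : R.O) = ⟨r', hr'1 R ⟨e, he⟩⟩ * ⟨δ, hδO⟩ from rfl, map_mul,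
      show IsLocalRing.residue R.O ⟨r', hr'1 R ⟨e, he⟩⟩ = IsLocalRing.residue R.O r by
        rw [← sub_eq_zero, ← map_sub, Gal.residue_lt_iff]; exact hr'R] at h
    have hne : IsLocalRing.residue R.O ⟨δ, hδO⟩ ≠ 0 := by
      rw [ne_eq, Gal.residue_lt_iff]
      exact fun h' => (hδ ▸ h').false
    exact (mul_div_cancel_right₀ (IsLocalRing.residue R.O r) hne) ▸ div_mem h hδM
  -- `θ` is a simple root
  have hθsep : IsSeparable L θ := by
    let ι : P.O →+* R.O := ((algebraMap E K).comp (algebraMap P.O E)).codRestrict R.O fun c => (over_le_iff he (c : E)).2 c.2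
    set f₀ := minpoly P.O y₀
    let ρ : P.O →+* L := ((IsLocalRing.residue R.O).comp ι).codRestrict L fun c => hresE c _
    have hev : ∀ g : Polynomial P.O, aeval θ (g.map ρ) = IsLocalRing.residue R.O (eval₂ ι ⟨y₀, hRy⟩ g) := fun g => by
      rw [aeval_def, eval₂_map, hom_eval₂]; rfl
    have hcoe : ∀ g : Polynomial P.O, ((eval₂ ι ⟨y₀, hRy⟩ g : R.O) : K) = aeval y₀ g := fun g => by
      rw [show ((eval₂ ι ⟨y₀, hRy⟩ g : R.O) : K) = R.O.subtype (eval₂ ι ⟨y₀, hRy⟩ g) from rfl, hom_eval₂, aeval_def]
      rfl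
    have h0 : aeval θ (f₀.map ρ) = 0 := by
      rw [hev, show (eval₂ ι ⟨y₀, hRy⟩ f₀ : R.O) = 0 from Subtype.ext (by rw [hcoe, minpoly.aeval]; rfl), map_zero]
    have h1 : aeval θ (derivative (f₀.map ρ)) ≠ 0 := by
      rw [derivative_map, hev, ne_eq, Gal.residue_lt_iff, hcoe]
      have : aeval y₀ (derivative f₀) = aeval y₀ (derivative (minpoly E y₀)) := by
        rw [minpoly.isIntegrallyClosed_eq_field_fractions' E hy, derivative_map, aeval_map_algebraMap]
      rw [this, hδ]; exact lt_irrefl _
    obtain ⟨g, hg'⟩ := minpoly.dvd L θ h0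
    have hint : IsIntegral L θ := by
      have : FiniteDimensional k κ := Module.finite_of_finrank_pos (deg_pos hK R)
      have hfin' : @Module.Finite k κ _ _ Algebra.toModule := this
      exact (@IsIntegral.of_finite k κ _ _ _ hfin' θ).tower_top
    refine (separable_iff_derivative_ne_zero (minpoly.irreducible hint)).2 fun h' => h1 ?_
    rw [hg', derivative_mul, h', zero_mul, zero_add, map_mul, minpoly.aeval, zero_mul]
  have : Algebra.IsSeparable L M := (IntermediateField.isSeparable_adjoin_simple_iff_isSeparable _ _).2 hθsep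
  have : Algebra.IsSeparable L κ := by
    rw [hM] at this
    exact Algebra.IsSeparable.of_algHom L (⊤ : IntermediateField L κ) (IntermediateField.topEquiv.symm.toAlgHom)
  exact Algebra.IsSeparable.trans k L κ

end Groth.Agent.FunFldLib.Kaehler
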